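import Cfsg.Agent.Lib.OmegaEight23.Subfield.OrthMax

/-!
The subfield subgroup of `Ω(Q)` is maximal for a prime odd degree extension, dimension at least `7`.
-/

set_option autoImplicit false

namespace Cfsg.Agent.Lib.OmegaEight23.Subfield.OrthSubfield

open Matrix Cfsg.Agent.Lib.Subspaces.Transvection Cfsg.Agent.Lib.Subspaces.FormVec
  Cfsg.Agent.Lib.Subspaces.OrthForm Cfsg.Agent.Lib.Subspaces.OrthLines Cfsg.Agent.Lib.Subspaces.OmegaGL
  Cfsg.Agent.Lib.SubfieldMax.Linear Cfsg.Agent.Lib.SubfieldMax.RatLin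
  Cfsg.Agent.Lib.OmegaEight23.Subfield.OrthBasic Cfsg.Agent.Lib.OmegaEight23.Subfield.Orth
open Cfsg.Agent.Lib.SubfieldMax.Form (RatUpTo)

variable {ι : Type} [Fintype ι] [DecidableEq ι] {F : Type*} [Field F]

/-- Elements of `Ω` have determinant one. -/
theorem det_omega {Q : (ι → F) → F} {g : GL ι F} (hg : g ∈ Cfsg.Geo.omegaGL Q) :
    (g : Matrix ι ι F).det = 1 := by
  obtain ⟨x, hx, rfl⟩ := hg
  let f : Cfsg.isometryGroup F Q →* Fˣ :=
    Matrix.GeneralLinearGroup.det.comp (Cfsg.isometryGroup F Q).subtype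
  exact congrArg Units.val (MonoidHom.mem_ker.mp (Abelianization.commutator_subset_ker f hx))

theorem mem_of_sq_mem [Fintype F] (F₀ : Subfield F) {r : ℕ} (hr : r.Prime) (hodd : Odd r)
    (hcard : Fintype.card F = Nat.card F₀ ^ r) (c : F) (hc : c ^ 2 ∈ F₀) : c ∈ F₀ := by
  have hfin : Module.finrank F₀ F = r := by
    have h := Module.natCard_eq_pow_finrank (K := F₀) (V := F)
    rw [Nat.card_eq_fintype_card, hcard] at h
    exact (Nat.pow_right_injective (Finite.one_lt_card (α := F₀)) h).symm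
  have hint : IsIntegral F₀ c := Algebra.IsIntegral.isIntegral c
  have hdvd : (minpoly F₀ c).natDegree ∣ r := hfin ▸ minpoly.degree_dvd hint
  have hle : (minpoly F₀ c).natDegree ≤ 2 := by
    have h := minpoly.dvd F₀ c (p := Polynomial.X ^ 2 - Polynomial.C ⟨c ^ 2, hc⟩)
      (by
        simp only [map_sub, map_pow, Polynomial.aeval_X, Polynomial.aeval_C]
        exact sub_self _)
    have h2 := Polynomial.natDegree_le_of_dvd h (Polynomial.X_pow_sub_C_ne_zero (by norm_num) _)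
    rwa [Polynomial.natDegree_X_pow_sub_C] at h2
  have hpos := minpoly.natDegree_pos hint
  have h1 : (minpoly F₀ c).natDegree = 1 := by
    rcases (Nat.dvd_prime hr).1 hdvd with h | h
    · exact h
    · obtain ⟨j, hj⟩ := hodd
      have := hr.two_le
      omega
  obtain ⟨d, rfl⟩ := minpoly.natDegree_eq_one_iff.1 h1
  exact d.2

theorem maximal [Fintype F] {Q : (ι → F) → F} (hQ : Cfsg.Geo.IsNondegenerateQuadraticForm Q)
    (hn : 7 ≤ Fintype.card ι) (F₀ : Subfield F) (r : ℕ) (hr : r.Prime) (hodd : Odd r)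
    (hcard : Fintype.card F = Nat.card F₀ ^ r) (P : GL ι F) (ζ : F) (hζ : ζ ≠ 0)
    (hP : Cfsg.Geo.IsQuadFormRationalStructure (fun v : ι → F => ζ * Q v) F₀ P) :
    Cfsg.Geo.IsMaximalIn (Cfsg.Geo.omegaGL Q) (Cfsg.Geo.subfieldSubgroup F₀ P ⊓ Cfsg.Geo.omegaGL Q) := by
  classical
  have hn5 : 5 ≤ Fintype.card ι := by omega
  have hb := hQ.polar_bilinear
  let Q' : (ι → F) → F := fun x => ζ * Q ((P : Matrix ι ι F) *ᵥ x)
  have hpol : ∀ x y, QuadraticMap.polar Q' x y =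
      ζ * QuadraticMap.polar Q ((P : Matrix ι ι F) *ᵥ x) ((P : Matrix ι ι F) *ᵥ y) := fun x y => by
    simp only [QuadraticMap.polar, Q', mulVec_add]; ring
  have hinv : ∀ v : ι → F, v ≠ 0 → (P : Matrix ι ι F) *ᵥ v ≠ 0 := fun v hv e =>
    hv (gl_mulVec_injective P (by simpa using e))
  have hQ' : Cfsg.Geo.IsNondegenerateQuadraticForm Q' := by
    refine ⟨fun c v => ?_, ⟨fun x y v => ?_, fun c x v => ?_, fun v x y => ?_, fun c v x => ?_⟩, fun v hv => ?_⟩
    · simp only [Q', mulVec_smul, hQ.smul]; ring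
    · simp only [hpol, mulVec_add, hb.add_left, mul_add]
    · simp only [hpol, mulVec_smul, hb.smul_left]; ring
    · simp only [hpol, mulVec_add, hb.add_right, mul_add]
    · simp only [hpol, mulVec_smul, hb.smul_right]; ring
    · obtain ⟨⟨x, hx⟩, ⟨y, hy⟩⟩ := hQ.nondegenerate _ (hinv v hv)
      refine ⟨⟨((P⁻¹ : GL ι F) : Matrix ι ι F) *ᵥ x, ?_⟩, ⟨((P⁻¹ : GL ι F) : Matrix ι ι F) *ᵥ y, ?_⟩⟩
      · rw [hpol, gl_mulVec_inv]; exact mul_ne_zero hζ hx
      · rw [hpol, gl_mulVec_inv]; exact mul_ne_zero hζ hy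
  have hbase : Base F₀ Q' := ⟨hQ', fun u hu => hP u hu, hn, mem_of_sq_mem F₀ hr hodd hcard⟩
  let c := (MulAut.conj P).toMonoidHom
  have hconj : ∀ (g : GL ι F) (u : ι → F), ((c g : GL ι F) : Matrix ι ι F) *ᵥ ((P : Matrix ι ι F) *ᵥ u) =
      (P : Matrix ι ι F) *ᵥ ((g : Matrix ι ι F) *ᵥ u) := by
    intro g u
    show ((P * g * P⁻¹ : GL ι F) : Matrix ι ι F) *ᵥ _ = _
    rw [gl_mul_mulVec, gl_mul_mulVec, gl_inv_mulVec]
  have hsub : ∀ g : GL ι F, c g ∈ Cfsg.Geo.subfieldSubgroup F₀ P ↔ RatUpTo F₀ g := by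
    intro g
    rw [Cfsg.Agent.Lib.SubfieldMax.Mem.mem_sub_iff]
    rw [show P⁻¹ * c g * P = g by show P⁻¹ * (P * g * P⁻¹) * P = g; group]
  have hpre : ∀ {u w : ι → F}, Q' u = 0 → QuadraticMap.polar Q' w u = 0 →
      Q ((P : Matrix ι ι F) *ᵥ u) = 0 ∧
        QuadraticMap.polar Q (ζ • ((P : Matrix ι ι F) *ᵥ w)) ((P : Matrix ι ι F) *ᵥ u) = 0 := by
    intro u w hu hw
    rw [hpol] at hw
    exact ⟨(mul_eq_zero.1 hu).resolve_left hζ, by rw [hb.smul_left, hw]⟩
  have hlink : ∀ {u w : ι → F}, Q' u = 0 → QuadraticMap.polar Q' w u = 0 →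
      c (sieg Q' u w) = sieg Q ((P : Matrix ι ι F) *ᵥ u) (ζ • ((P : Matrix ι ι F) *ᵥ w)) := by
    intro u w hu hw
    obtain ⟨hu', hw'⟩ := hpre hu hw
    refine gl_ext fun x => ?_
    rw [← gl_mulVec_inv P x, hconj, sieg_mulVec hQ' hu hw, gl_mulVec_inv, sieg_mulVec hQ hu' hw',
      mulVec_add, mulVec_add, mulVec_smul, mulVec_smul, gl_mulVec_inv, hpol, hpol, gl_mulVec_inv,
      hb.smul_right, hQ.smul]
    simp only [Q']
    module
  have hmemK : ∀ {u w : ι → F}, Q' u = 0 → QuadraticMap.polar Q' w u = 0 →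
      c (sieg Q' u w) ∈ Cfsg.Geo.omegaGL Q := fun hu hw => by
    rw [hlink hu hw]
    exact sieg_mem_omega hQ hn5 (hpre hu hw).1 (hpre hu hw).2
  have hcard' : Nat.card F = Nat.card F₀ ^ r := by rw [Nat.card_eq_fintype_card, hcard]
  refine isMaximalIn_of inf_le_right ?_ ?_
  · obtain ⟨l, hl⟩ : ∃ l : F, l ∉ F₀ := by
      by_contra hall
      push Not at hall
      have : Nat.card F₀ = Nat.card F := Nat.card_congr (Equiv.subtypeUnivEquiv hall)
      rw [← this] at hcard'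
      exact hr.ne_one (Nat.pow_right_injective (Finite.one_lt_card (α := F₀)) (hcard'.symm.trans (pow_one _).symm))
    obtain ⟨e₁, he₁, hs₁, -, he₁n⟩ := hbase.sing (k := 0) ![] (fun i => i.elim0) (l := 0) ![]
      (fun i => i.elim0) (by norm_num)
    replace he₁n : e₁ ≠ 0 := by simpa using he₁n
    obtain ⟨e₂, he₂, hs₂, he₂o, he₂n⟩ := hbase.sing ![e₁] (fun i => by fin_cases i; exact he₁)
      ![e₁] (fun i => by fin_cases i; exact he₁) (by norm_num)
    have h21 : QuadraticMap.polar Q' e₂ e₁ = 0 := he₂o 0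
    obtain ⟨x, hx, -, hxo, hx2⟩ := hbase.sing_one ![e₁] (fun i => by fin_cases i; exact he₁) he₂ he₂n
      (by norm_num)
    have hx1 : QuadraticMap.polar Q' x e₁ = 0 := hxo 0
    have h21' : QuadraticMap.polar Q' (l • e₂) e₁ = 0 := by
      rw [hQ'.polar_bilinear.smul_left, h21, mul_zero]
    have hh : ∀ v, (sieg Q' e₁ (l • e₂) : Matrix ι ι F) *ᵥ v =
        v + QuadraticMap.polar Q' v e₁ • (l • e₂) + (-QuadraticMap.polar Q' v (l • e₂)) • e₁ :=
      lsieg_mulVec hQ' hs₁ (by rw [hQ'.smul, hs₂, mul_zero]) (by rw [B_comm]; exact h21')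
    refine ⟨c (sieg Q' e₁ (l • e₂)), hmemK hs₁ h21', fun hmem => hl ?_⟩
    obtain ⟨d, hd, hent⟩ := (hsub _).1 hmem.1
    obtain ⟨j, hj⟩ := Function.ne_iff.1 he₁n
    simp only [Pi.zero_apply] at hj
    have h1 := rat_mulVec hent he₁ j
    rw [hh, hQ'.polar_bilinear.smul_right, B_self hQ', hs₁, B_comm e₁ e₂, h21] at h1
    simp at h1
    have hdF : d ∈ F₀ := by
      have := mul_mem h1 (inv_mem (he₁ j))
      rwa [mul_assoc, mul_inv_cancel₀ hj, mul_one] at this
    have h2 := sub_mem (rat_mulVec hent hx j) (mul_mem hdF (hx j))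
    rw [hh, hx1, hQ'.polar_bilinear.smul_right, hx2] at h2
    simp at h2
    have h3 := mul_mem h2 (inv_mem (mul_mem hdF (he₁ j)))
    have h4 : -l ∈ F₀ := by
      convert h3 using 1
      field_simp
      ring
    simpa using neg_mem h4
  · intro M hHM hMK g hgM hgH
    have S : Setting F₀ Q' (M.comap c) := by
      refine ⟨hbase, fun x hx v => ?_, fun x hx => ?_, fun u w hu hw hu0 hwu =>
        hHM ⟨(hsub _).2 ⟨1, one_ne_zero, fun i j => ?_⟩, hmemK hu0 hwu⟩⟩
      · show ζ * Q _ = ζ * Q _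
        rw [← hconj, omega_isometry hQ (hMK hx)]
      · have h := det_omega (hMK hx)
        show (x : Matrix ι ι F).det = 1
        rw [← h]
        show _ = ((P * x * P⁻¹ : GL ι F) : Matrix ι ι F).det
        rw [Units.val_mul, Units.val_mul, Matrix.det_mul, Matrix.det_mul, mul_right_comm, ← Matrix.det_mul,
          ← Units.val_mul, mul_inv_cancel, Units.val_one, Matrix.det_one, one_mul]
      · rw [one_mul]
        exact hbase.rat_sieg hu hw hu0 hwu i j
    by_cases hG : Orth.Good F₀ Q' (M.comap c)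
    · have hfull := Cfsg.Agent.Lib.OmegaEight23.Subfield.OrthMax.full_of_good S hr hcard' hG
      refine omega_le hQ hn5 fun u w hu hwu => ?_
      set u' := ((P⁻¹ : GL ι F) : Matrix ι ι F) *ᵥ u
      set w' := ζ⁻¹ • (((P⁻¹ : GL ι F) : Matrix ι ι F) *ᵥ w)
      have hu' : Q' u' = 0 := by simp only [Q', u', gl_mulVec_inv, hu, mul_zero]
      have hw' : QuadraticMap.polar Q' w' u' = 0 := by
        simp only [hpol, w', u', mulVec_smul, gl_mulVec_inv, hb.smul_left, hwu, mul_zero]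
      have h := (hfull u' hu').2 w' hw'
      rw [Subgroup.mem_comap, hlink hu' hw'] at h
      simpa [u', w', mulVec_smul, smul_smul, mul_inv_cancel₀ hζ] using h
    · obtain ⟨y, rfl⟩ : ∃ y, c y = g := (MulAut.conj P).surjective g
      exact absurd ⟨(hsub y).2 (Cfsg.Agent.Lib.OmegaEight23.Subfield.OrthMax.rigid S hG hgM), hMK hgM⟩ hgH

end Cfsg.Agent.Lib.OmegaEight23.Subfield.OrthSubfield
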